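import Cfsg.Agent.PSpFourCentral.Members
import Cfsg.Agent.S0270

/-!
`Sp₄(q)` maps onto the subgroup generated by the centraliser in coordinates and its exchange.
-/

set_option autoImplicit false
set_option linter.unusedSectionVars false
set_option linter.style.haveILetI false
set_option linter.unusedSimpArgs false

open Matrix Subgroup

namespace CfsgLib.PSpFourCentral

open CfsgLib.PSpFourNormM
open CfsgLib.SpPres (mem')

variable {F : Type*} [Field F] {G : Type*} [Group G]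

local notation "Sp" => Matrix.symplecticGroup (Fin 2) F

theorem Wm_inj' (h2 : (2 : F) ≠ 0) {v v' : F × F × F} {A A' : Matrix.SpecialLinearGroup (Fin 2) F}
    (h : Wm v A = Wm v' A') : v = v' ∧ A = A' := Wm_inj h2 (by rw [h])

variable {C : Subgroup G} (Φ : Frame F C)

/-- The plane in coordinates. -/
def planeHom : Matrix.SpecialLinearGroup (Fin 2) F →* G where
  toFun A := Φ.el 0 A
  map_one' := Φ.el_one
  map_mul' A B := by rw [Φ.mul]; congr 1; simp [vmul, Prod.ext_iff]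

/-- The coordinates as a homomorphism on the stabiliser. -/
noncomputable def stabHom (h2 : (2 : F) ≠ 0) : ↥(CW F) →* G :=
  MonoidHom.mk' (fun g => Φ.el g.2.choose g.2.choose_spec.choose) fun x y => by
    have hx := x.2.choose_spec.choose_spec
    have hy := y.2.choose_spec.choose_spec
    have hxy := (x * y).2.choose_spec.choose_spec
    obtain ⟨e1, e2⟩ := Wm_inj' h2 (hxy.trans (show (x : Sp) * y =
      Wm (vmul x.2.choose x.2.choose_spec.choose y.2.choose)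
        (x.2.choose_spec.choose * y.2.choose_spec.choose) by rw [← Wm_mul, hx, hy]))
    show Φ.el _ _ = Φ.el _ _ * Φ.el _ _
    rw [Φ.mul]; exact congrArg₂ Φ.el e1 e2

theorem stabHom_Wm (h2 : (2 : F) ≠ 0) (v : F × F × F) (A : Matrix.SpecialLinearGroup (Fin 2) F) :
    stabHom Φ h2 ⟨Wm v A, Wm_mem v A⟩ = Φ.el v A := by
  obtain ⟨e1, e2⟩ := Wm_inj' h2 (Wm_mem v A).choose_spec.choose_spec
  exact congrArg₂ Φ.el e1 e2

theorem stabHom_siegel (h2 : (2 : F) ≠ 0) (u : V F) :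
    stabHom Φ h2 ⟨siegel u, siegel_mem u⟩ = Φ.mM u := stabHom_Wm Φ h2 _ _

theorem stabHom_eq (h2 : (2 : F) ≠ 0) {g : Sp} (hg : g ∈ CW F) {v : F × F × F}
    {A : Matrix.SpecialLinearGroup (Fin 2) F} (e : g = Wm v A) :
    stabHom Φ h2 ⟨g, hg⟩ = Φ.el v A := by subst e; exact stabHom_Wm Φ h2 v A

theorem pl1_mem (A : Matrix.SpecialLinearGroup (Fin 2) F) : pl1 F A ∈ CW F := Wm_mem 0 A

theorem stabHom_pl1 (h2 : (2 : F) ≠ 0) (A : Matrix.SpecialLinearGroup (Fin 2) F) :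
    stabHom Φ h2 ⟨pl1 F A, pl1_mem A⟩ = Φ.el 0 A := stabHom_Wm Φ h2 0 A

/-- The rotation of the plane. -/
def rot (F : Type*) [Field F] : Matrix.SpecialLinearGroup (Fin 2) F :=
  ⟨!![0, -1; 1, 0], by simp [Matrix.det_fin_two]⟩

theorem rot_val : (rot F).1 = !![0, -1; 1, 0] := rfl

theorem decomp (p q c : F) (A : Matrix.SpecialLinearGroup (Fin 2) F) :
    ∃ R : Matrix.SpecialLinearGroup (Fin 2) F, (Wm (p, q, c) A : Sp) =
      siegel (c - p * q, p, 0) * (pl1 F R * siegel (0, q, 0) * pl1 F R⁻¹) * pl1 F A := by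
  refine ⟨rot F, ?_⟩
  show _ = siegel _ * (Wm 0 _ * siegel _ * Wm 0 _) * Wm 0 A
  simp only [siegel, Wm_mul, uS_zero, mul_one, mul_inv_cancel, one_mul]
  congr 1
  simp [vmul, Prod.ext_iff, Matrix.SpecialLinearGroup.coe_inv, Matrix.adjugate_fin_two, rot_val]

/-- Two homomorphisms that agree on the plane and the Siegel subgroup agree on the stabiliser. -/
theorem eq_on_stab {f g : ↥(CW F) →* G}
    (hpl : ∀ A, f ⟨pl1 F A, pl1_mem A⟩ = g ⟨pl1 F A, pl1_mem A⟩)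
    (hsi : ∀ u, f ⟨siegel u, siegel_mem u⟩ = g ⟨siegel u, siegel_mem u⟩) (x : CW F) : f x = g x := by
  obtain ⟨_, ⟨p, q, c⟩, A, rfl⟩ := x
  obtain ⟨R, hR⟩ := decomp p q c A
  have e : (⟨Wm (p, q, c) A, ⟨(p, q, c), A, rfl⟩⟩ : CW F) = ⟨siegel (c - p * q, p, 0), siegel_mem _⟩ *
      (⟨pl1 F R, pl1_mem R⟩ * ⟨siegel (0, q, 0), siegel_mem _⟩ * ⟨pl1 F R⁻¹, pl1_mem R⁻¹⟩) *
      ⟨pl1 F A, pl1_mem A⟩ := Subtype.ext hR
  rw [e]
  simp only [map_mul, hpl, hsi]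

/-- The homomorphism on the join of two members inside a subgroup. -/
theorem pair_of_le (f : ∀ k : SpPres.Idx 2, ↥(mem' (F := F) k) →* G) {k l : SpPres.Idx 2} (D : Subgroup Sp)
    (δ : ↥D →* G) (hk : mem' (F := F) k ≤ D) (hl : mem' (F := F) l ≤ D)
    (ek : ∀ g (hg : g ∈ mem' (F := F) k), δ ⟨g, hk hg⟩ = f k ⟨g, hg⟩)
    (el : ∀ g (hg : g ∈ mem' (F := F) l), δ ⟨g, hl hg⟩ = f l ⟨g, hg⟩) :
    ∃ Ψ : ↥(mem' (F := F) k ⊔ mem' l) →* G,
      (∀ g (hg : g ∈ mem' k), Ψ ⟨g, mem_sup_left hg⟩ = f k ⟨g, hg⟩) ∧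
        ∀ g (hg : g ∈ mem' l), Ψ ⟨g, mem_sup_right hg⟩ = f l ⟨g, hg⟩ :=
  ⟨δ.comp (Subgroup.inclusion (sup_le hk hl)), fun g hg => ek g hg, fun g hg => el g hg⟩

variable (h2 : (2 : F) ≠ 0) (w : G) (hw : ∀ u : V F, w * Φ.mM u * w⁻¹ = Φ.mM (symHom F wM u))
variable (hLL : ∀ A B, Commute (w * Φ.el 0 A * w⁻¹) (Φ.el 0 B))
include h2 hw hLL

/-- The homomorphism from `Sp₄(q)`. -/
theorem exists_hom : ∃ ψ : Sp →* G, (∀ v A, ψ (Wm v A) = Φ.el v A) ∧
    (∀ v A, ψ (sSwap F * Wm v A * (sSwap F)⁻¹) = w * Φ.el v A * w⁻¹) ∧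
    ψ.range = C ⊔ C.map (MulAut.conj w).toMonoidHom := by
  classical
  let σ : Sp →* Sp := (MulAut.conj (sSwap F)⁻¹).toMonoidHom
  let CW0 : Subgroup Sp := (CW F).comap σ
  let ψ1 : ↥(CW F) →* G := stabHom Φ h2
  let ψ0 : ↥CW0 →* G := (MulAut.conj w).toMonoidHom.comp
    (ψ1.comp ((σ.comp CW0.subtype).codRestrict (CW F) fun g => g.2))
  have hσ : ∀ g : Sp, σ (sSwap F * g * (sSwap F)⁻¹) = g := fun g => by
    show (sSwap F)⁻¹ * (sSwap F * g * (sSwap F)⁻¹) * (sSwap F)⁻¹⁻¹ = g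
    group
  have hψ0 : ∀ g (hg : g ∈ CW0) (v : F × F × F) (A : Matrix.SpecialLinearGroup (Fin 2) F),
      σ g = Wm v A → ψ0 ⟨g, hg⟩ = w * Φ.el v A * w⁻¹ := by
    intro g hg v A e
    show w * ψ1 ⟨σ g, hg⟩ * w⁻¹ = _
    rw [stabHom_eq Φ h2 hg e]
  have hM0 : ∀ g, g ∈ (siegelHom F).range → ∃ hg : g ∈ CW0, ∀ hg1 : g ∈ CW F, ψ0 ⟨g, hg⟩ = ψ1 ⟨g, hg1⟩ := by
    rintro _ ⟨u, rfl⟩
    set v := (symHom F wM)⁻¹ (Multiplicative.toAdd u) with hv
    have hvu : symHom F wM v = Multiplicative.toAdd u := Equiv.apply_symm_apply _ _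
    have e : σ (siegelHom F u) = siegel v := by
      rw [← hσ (siegel v), siegel_swap, hvu]; rfl
    have hg : siegelHom F u ∈ CW0 := by
      show σ _ ∈ CW F
      rw [e]; exact siegel_mem v
    refine ⟨hg, fun hg1 => ?_⟩
    rw [hψ0 _ hg _ _ e, stabHom_eq Φ h2 hg1 (show siegelHom F u = Wm _ _ from rfl)]
    show w * Φ.mM v * w⁻¹ = Φ.mM (Multiplicative.toAdd u)
    rw [hw, hvu]
  have h1le : mem' (F := F) (n := 2) (Sum.inl 1) ≤ CW F := fun g hg => by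
    obtain ⟨A, rfl⟩ := mem_one_le hg; exact Wm_mem _ _
  have h0le : mem' (F := F) (n := 2) (Sum.inl 0) ≤ CW0 := fun g hg => by
    obtain ⟨A, rfl⟩ := mem_zero_le hg
    show σ (sSwap F * pl1 F A * (sSwap F)⁻¹) ∈ CW F
    rw [hσ]; exact Wm_mem _ _
  have hMle : ∀ i, mem' (F := F) (n := 2) (Sum.inr i) ≤ CW F := fun i g hg => by
    obtain ⟨u, rfl⟩ := mem_pair_le i hg; exact siegel_mem _
  have hMle0 : ∀ i, mem' (F := F) (n := 2) (Sum.inr i) ≤ CW0 := fun i g hg =>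
    (hM0 g (mem_pair_le i hg)).1
  let f : ∀ k : SpPres.Idx 2, ↥(mem' (F := F) k) →* G := fun k =>
    match k with
    | Sum.inl j => if hj : j = 1 then ψ1.comp (Subgroup.inclusion (hj ▸ h1le))
        else ψ0.comp (Subgroup.inclusion ((show j = 0 by omega) ▸ h0le))
    | Sum.inr i => ψ1.comp (Subgroup.inclusion (hMle i))
  have f1 : ∀ g hg, f (Sum.inl 1) ⟨g, hg⟩ = ψ1 ⟨g, h1le hg⟩ := fun g hg => rfl
  have f0 : ∀ g hg, f (Sum.inl 0) ⟨g, hg⟩ = ψ0 ⟨g, h0le hg⟩ := fun g hg => rfl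
  have fM : ∀ i g hg, f (Sum.inr i) ⟨g, hg⟩ = ψ1 ⟨g, hMle i hg⟩ := fun i g hg => rfl
  -- the two planes
  let δ : ↥(pr F).range →* G :=
    (((MulAut.conj w).toMonoidHom.comp (planeHom Φ)).noncommCoprod (planeHom Φ) hLL).comp
      (MonoidHom.ofInjective pr_injective).symm.toMonoidHom
  have hδ : ∀ A B (hg : pr F (A, B) ∈ (pr F).range), δ ⟨pr F (A, B), hg⟩ =
      w * Φ.el 0 A * w⁻¹ * Φ.el 0 B := by
    intro A B hg
    have e : (MonoidHom.ofInjective pr_injective).symm ⟨pr F (A, B), hg⟩ = (A, B) :=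
      (MulEquiv.symm_apply_eq _).2 (Subtype.ext rfl)
    simp only [δ, MonoidHom.comp_apply, MulEquiv.coe_toMonoidHom, e]
    rfl
  have hp0 : mem' (F := F) (n := 2) (Sum.inl 0) ≤ (pr F).range := fun g hg => by
    obtain ⟨A, rfl⟩ := mem_zero_le hg
    exact ⟨(A, 1), by simp [pr]⟩
  have hp1 : mem' (F := F) (n := 2) (Sum.inl 1) ≤ (pr F).range := fun g hg => by
    obtain ⟨A, rfl⟩ := mem_one_le hg
    exact ⟨(1, A), by simp [pr]⟩
  have d0 : ∀ g (hg : g ∈ mem' (F := F) (Sum.inl 0)), δ ⟨g, hp0 hg⟩ = f (Sum.inl 0) ⟨g, hg⟩ := by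
    intro g hg
    obtain ⟨A, rfl⟩ := mem_zero_le hg
    have e : pr F (A, 1) = pl0 F A := by simp [pr]
    rw [f0, hψ0 (pl0 F A) _ (0 : F × F × F) A (hσ _)]
    refine (congrArg δ (Subtype.ext e.symm : (⟨pl0 F A, hp0 hg⟩ : (pr F).range) =
      ⟨pr F (A, 1), e ▸ hp0 hg⟩)).trans ?_
    rw [hδ, show Φ.el 0 1 = 1 from Φ.el_one, mul_one]
  have d1 : ∀ g (hg : g ∈ mem' (F := F) (Sum.inl 1)), δ ⟨g, hp1 hg⟩ = f (Sum.inl 1) ⟨g, hg⟩ := by
    intro g hg
    obtain ⟨A, rfl⟩ := mem_one_le hg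
    have e : pr F (1, A) = pl1 F A := by simp [pr]
    rw [f1, stabHom_eq Φ h2 _ (show pl1 F A = Wm 0 A from rfl)]
    refine (congrArg δ (Subtype.ext e.symm : (⟨pl1 F A, hp1 hg⟩ : (pr F).range) =
      ⟨pr F (1, A), e ▸ hp1 hg⟩)).trans ?_
    rw [hδ, show Φ.el 0 1 = 1 from Φ.el_one]
    group
  have m0 : ∀ i g (hg : g ∈ mem' (F := F) (Sum.inr i)), ψ0 ⟨g, hMle0 i hg⟩ = f (Sum.inr i) ⟨g, hg⟩ :=
    fun i g hg => (hM0 g (mem_pair_le i hg)).2 (hMle i hg)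
  obtain ⟨ψ, hψ⟩ := SpPres.exists_completion (F := F) ⟨2, h2, fun h => one_ne_zero (show (1 : F) = 0 by
      linear_combination h)⟩ 2 f fun k l => by
    rcases k with j | i <;> rcases l with j' | i'
    · fin_cases j <;> fin_cases j'
      · exact pair_of_le f CW0 ψ0 h0le h0le (fun g hg => (f0 g hg).symm) (fun g hg => (f0 g hg).symm)
      · exact pair_of_le f _ δ hp0 hp1 d0 d1
      · exact pair_of_le f _ δ hp1 hp0 d1 d0
      · exact pair_of_le f (CW F) ψ1 h1le h1le (fun g hg => rfl) (fun g hg => rfl)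
    · fin_cases j
      · exact pair_of_le f CW0 ψ0 h0le (hMle0 i') (fun g hg => (f0 g hg).symm) (m0 i')
      · exact pair_of_le f (CW F) ψ1 h1le (hMle i') (fun g hg => rfl) (fun g hg => rfl)
    · fin_cases j'
      · exact pair_of_le f CW0 ψ0 (hMle0 i) h0le (m0 i) (fun g hg => (f0 g hg).symm)
      · exact pair_of_le f (CW F) ψ1 (hMle i) h1le (fun g hg => rfl) (fun g hg => rfl)
    · exact pair_of_le f (CW F) ψ1 (hMle i) (hMle i') (fun g hg => rfl) (fun g hg => rfl)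
  -- the members contain the planes and the Siegel subgroup
  have hpl1 : ∀ A, pl1 F A ∈ mem' (F := F) (n := 2) (Sum.inl 1) := by
    intro A
    refine subset_closure fun k hk => ?_
    fin_cases k
    · constructor <;> rw [SpPres.αSp_apply] <;> funext i <;>
        rcases i with i | i <;> fin_cases i <;>
        simp [pl1, SpPres.eB, SpPres.fB, Wm, PSpFourThree.W, PSpFourThree.ofRows, PSpFourThree.ix]
    · exact absurd rfl hk
  have hpl0 : ∀ A, pl0 F A ∈ mem' (F := F) (n := 2) (Sum.inl 0) := by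
    intro A
    refine subset_closure fun k hk => ?_
    fin_cases k
    · exact absurd rfl hk
    · constructor <;> rw [SpPres.αSp_apply, pl0_val] <;> funext i <;>
        rcases i with i | i <;> fin_cases i <;>
        simp [SpPres.eB, SpPres.fB, PSpFourThree.ofRows, PSpFourThree.ix]
  have hsie : ∀ u : V F, siegel u ∈ mem' (F := F) (n := 2) (Sum.inr ⟨0, by decide⟩) := by
    intro u
    refine subset_closure ⟨fun k => ?_, fun k a b => ?_⟩
    · rw [SpPres.αSp_apply]; funext i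
      fin_cases k <;> rcases i with i | i <;> fin_cases i <;>
        simp [siegel, SpPres.eB, Wm, PSpFourThree.W, PSpFourThree.ofRows, PSpFourThree.ix, uS_val]
    · exfalso; fin_cases k <;> simp_all
  have hψ1 : ∀ A, ψ (pl1 F A) = Φ.el 0 A := fun A => by
    rw [hψ _ _ (hpl1 A), f1, stabHom_eq Φ h2 _ (show pl1 F A = Wm 0 A from rfl)]
  have hψM : ∀ u, ψ (siegel u) = Φ.mM u := fun u => by
    rw [hψ _ _ (hsie u), fM, stabHom_siegel]
  have hψ01 : ∀ A, ψ (pl0 F A) = w * Φ.el 0 A * w⁻¹ := fun A => by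
    rw [hψ _ _ (hpl0 A), f0, hψ0 (pl0 F A) _ (0 : F × F × F) A (hσ _)]
  have hC : ∀ v A, ψ (Wm v A) = Φ.el v A := by
    intro v A
    have h := eq_on_stab (f := ψ.comp (CW F).subtype) (g := stabHom Φ h2)
      (fun A => by rw [stabHom_pl1]; exact hψ1 A)
      (fun u => by rw [stabHom_siegel]; exact hψM u) ⟨Wm v A, Wm_mem v A⟩
    rw [stabHom_Wm] at h
    exact h
  have hCs : ∀ v A, ψ (sSwap F * Wm v A * (sSwap F)⁻¹) = w * Φ.el v A * w⁻¹ := by
    intro v A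
    have h := eq_on_stab (f := (ψ.comp (MulAut.conj (sSwap F)).toMonoidHom).comp (CW F).subtype)
      (g := (MulAut.conj w).toMonoidHom.comp (stabHom Φ h2))
      (fun A => by
        show ψ (pl0 F A) = w * stabHom Φ h2 _ * w⁻¹
        rw [stabHom_pl1]; exact hψ01 A)
      (fun u => by
        show ψ (sSwap F * siegel u * (sSwap F)⁻¹) = w * stabHom Φ h2 _ * w⁻¹
        rw [stabHom_siegel, siegel_swap, hψM, hw]) ⟨Wm v A, Wm_mem v A⟩
    show ψ ((MulAut.conj (sSwap F)) (Wm v A)) = _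
    refine h.trans ?_
    show w * stabHom Φ h2 _ * w⁻¹ = _
    rw [stabHom_Wm]
  refine ⟨ψ, hC, hCs, le_antisymm ?_ (sup_le ?_ ?_)⟩
  · rw [MonoidHom.range_eq_map, map_le_iff_le_comap, ← SpPres.iSup_mem', iSup_le_iff]
    intro k
    rcases k with j | i
    · fin_cases j
      · intro g hg
        obtain ⟨A, rfl⟩ := mem_zero_le hg
        rw [mem_comap, hψ01]; exact mem_sup_right ⟨_, Φ.el_mem 0 A, rfl⟩
      · intro g hg
        obtain ⟨A, rfl⟩ := mem_one_le hg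
        rw [mem_comap, hψ1]; exact mem_sup_left (Φ.el_mem 0 A)
    · intro g hg
      obtain ⟨u, rfl⟩ := mem_pair_le i hg
      rw [mem_comap, show siegelHom F u = siegel (Multiplicative.toAdd u) from rfl, hψM]; exact mem_sup_left (Φ.mM_mem _)
  · intro g hg
    obtain ⟨v, A, rfl⟩ := (Φ.mem_iff g).1 hg
    exact ⟨_, hC v A⟩
  · rintro _ ⟨g, hg, rfl⟩
    obtain ⟨v, A, rfl⟩ := (Φ.mem_iff g).1 hg
    exact ⟨_, hCs v A⟩

end CfsgLib.PSpFourCentral
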