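import Cfsg.Agent.PSpFourCentral.Completion
import Cfsg.Agent.PSpFourNormM.Bridge

/-!
The subgroup generated by the centraliser in coordinates and its exchange is `PSp₄(q)`.
-/

set_option autoImplicit false
set_option linter.unusedSectionVars false
set_option linter.style.haveILetI false

open Matrix Subgroup

namespace CfsgLib.PSpFourCentral

open CfsgLib.PSpFourNormM CfsgLib.AutPSp CfsgLib.Fusion.PSpChar CfsgLib.Symp

variable {F : Type*} [Field F] {G : Type*} [Group G]

local notation "Sp" => Matrix.symplecticGroup (Fin 2) F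

variable {C : Subgroup G} (Φ : Frame F C) (h2 : (2 : F) ≠ 0) {α : G}
  (hCα : C = Subgroup.centralizer ({α} : Set G)) (hαM : ∃ u, α = Φ.mM u)
  (w : G) (hw : ∀ u : V F, w * Φ.mM u * w⁻¹ = Φ.mM (symHom F wM u))
  (hLL : ∀ A B, Commute (w * Φ.el 0 A * w⁻¹) (Φ.el 0 B))

omit [Group G] in
theorem dS_neg_one : (dS (-1 : Fˣ) : Matrix.SpecialLinearGroup (Fin 2) F) = -1 := by
  refine Subtype.ext ?_
  ext i j
  fin_cases i <;> fin_cases j <;> simp [dS]

include h2 hCα hαM hw hLL in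
/-- The exchange fixes the central involution of the plane. -/
theorem swap_fix_jj : w * Φ.el 0 (-1) * w⁻¹ = Φ.el 0 (-1) := by
  set j := Φ.el 0 (-1) with hj
  set k := w * j * w⁻¹ with hk
  have hjH : j = Φ.hH (-1) := by rw [hj, Frame.hH, dS_neg_one]
  have hwi : ∀ u, symHom F wM (symHom F wM u) = u := by
    rintro ⟨a, b, c⟩; rw [wM_apply, wM_apply, neg_neg]
  have hwv : ∀ u, w⁻¹ * Φ.mM u * w = Φ.mM (symHom F wM u) := fun u => by
    rw [show Φ.mM u = Φ.mM (symHom F wM (symHom F wM u)) by rw [hwi], ← hw]; group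
  have hjact : ∀ u, j * Φ.mM u = Φ.mM (hT (-1) u) * j := fun u => by rw [hjH, Φ.hH_mM]
  have hkact : ∀ u, k * Φ.mM u = Φ.mM (hT (-1) u) * k := by
    intro u
    have e : symHom F wM (hT (-1) (symHom F wM u)) = hT (-1) u := by
      obtain ⟨a, b, c⟩ := u
      simp [wM_apply, hT_apply]
    rw [hk, ← e, ← hw]
    calc w * j * w⁻¹ * Φ.mM u = w * (j * (w⁻¹ * Φ.mM u * w)) * w⁻¹ := by group
      _ = w * (Φ.mM (hT (-1) (symHom F wM u)) * j) * w⁻¹ := by rw [hwv, hjact]
      _ = _ := by group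
  have hcomm : Commute k j := hLL (-1) (-1)
  have hact : ∀ u, (k * j) * Φ.mM u = Φ.mM u * (k * j) := fun u => by
    have e : hT (-1 : Fˣ) (hT (-1) u) = u := by
      obtain ⟨a, b, c⟩ := u
      simp [hT_apply]
    rw [mul_assoc, hjact, ← mul_assoc, hkact, e, mul_assoc]
  have hjj : j * j = 1 := by
    rw [hjH, ← Φ.hH_mul, neg_mul_neg, one_mul, Φ.hH_one]
  have hkk : k * k = 1 := by
    calc k * k = w * (j * j) * w⁻¹ := by rw [hk]; group
      _ = 1 := by rw [hjj]; group
  obtain ⟨u0, hu0⟩ := hαM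
  have hmem : k * j ∈ C := by
    rw [hCα, mem_centralizer_singleton_iff, hu0]
    exact hact u0
  obtain ⟨u, hu⟩ := Φ.eq_mM_of_comm h2 hmem hact
  have hsq : (k * j) * (k * j) = 1 := by
    rw [hcomm.symm.mul_mul_mul_comm, hkk, hjj, one_mul]
  rw [hu, ← Φ.mM_add, ← Φ.mM_zero] at hsq
  have hu2 := Φ.mM_inj hsq
  have hzero : u = 0 := by
    obtain ⟨a, b, c⟩ := u
    have key : ∀ x : F, x + x = 0 → x = 0 := fun x hx =>
      (mul_eq_zero.1 ((two_mul x).trans hx)).resolve_left h2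
    exact Prod.ext (key a (congrArg Prod.fst hu2)) (Prod.ext
      (key b (congrArg (fun z : V F => z.2.1) hu2)) (key c (congrArg (fun z : V F => z.2.2) hu2)))
  rw [hzero, Φ.mM_zero] at hu
  calc k = k * (j * j) := by rw [hjj, mul_one]
    _ = j := by rw [← mul_assoc, hu, one_mul]

include h2 hCα hαM hw hLL in
/-- The subgroup generated by the centraliser and its exchange. -/
theorem exists_iso [Fintype F] :
    ∃ ψ : Sp →* G, (∀ v A, ψ (Wm v A) = Φ.el v A) ∧
      (∀ v A, ψ (sSwap F * Wm v A * (sSwap F)⁻¹) = w * Φ.el v A * w⁻¹) ∧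
      ψ.range = C ⊔ C.map (MulAut.conj w).toMonoidHom ∧ w ∈ ψ.range ∧
      ψ.ker = Subgroup.center Sp ∧ Nonempty (ψ.range ≃* Cfsg.PSp 2 F) := by
  obtain ⟨ψ, hC, hCs, hr⟩ := exists_hom Φ h2 w hw hLL
  have hwr : w ∈ ψ.range := by
    have hu : ∀ g ∈ C, ((ψ (sSwap F))⁻¹ * w) * g = g * ((ψ (sSwap F))⁻¹ * w) := by
      intro g hg
      obtain ⟨v, A, rfl⟩ := (Φ.mem_iff g).1 hg
      have e := hCs v A
      rw [map_mul, map_mul, map_inv, hC] at e
      calc (ψ (sSwap F))⁻¹ * w * Φ.el v A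
          = (ψ (sSwap F))⁻¹ * (w * Φ.el v A * w⁻¹) * w := by group
        _ = _ := by rw [← e]; group
    have hαC : α ∈ C := by rw [hCα]; exact mem_centralizer_singleton_iff.2 rfl
    have hmem : (ψ (sSwap F))⁻¹ * w ∈ ψ.range := by
      rw [hr]
      exact mem_sup_left (hCα ▸ mem_centralizer_singleton_iff.2 (hu α hαC))
    have := mul_mem (show ψ (sSwap F) ∈ ψ.range from ⟨_, rfl⟩) hmem
    rwa [mul_inv_cancel_left] at this
  have hneg : ∀ z : Sp, z.1 = -1 → ψ z = 1 := by
    intro z hz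
    have e : z = pl0 F (-1) * pl1 F (-1) := by
      refine Subtype.ext ?_
      show z.1 = (pl0 F (-1) : Sp).1 * (Wm 0 (-1) : Sp).1
      rw [hz, pl0_val]
      ext i j
      rcases i with i | i <;> rcases j with j | j <;> fin_cases i <;> fin_cases j <;>
        simp [Wm, PSpFourThree.W, PSpFourThree.ofRows, PSpFourThree.ix, Matrix.mul_apply,
          Fintype.sum_sum_type, Fin.sum_univ_two]
    have e0 : ψ (pl0 F (-1)) = w * Φ.el 0 (-1) * w⁻¹ := hCs 0 (-1)
    have e1 : ψ (pl1 F (-1)) = Φ.el 0 (-1) := hC 0 (-1)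
    rw [e, map_mul, e0, e1, swap_fix_jj Φ h2 hCα hαM w hw hLL, Φ.mul, neg_one_mul, neg_neg]
    rw [show vmul (0 : F × F × F) (-1) 0 = 0 by simp [vmul, Prod.ext_iff]]
    exact Φ.el_one
  have hker : ψ.ker = Subgroup.center Sp := by
    have hle : Subgroup.center Sp ≤ ψ.ker := by
      intro z hz
      rcases Symp.mem_center_iff.mp hz with k | k
      · have hz1 : z = 1 := Subtype.ext k
        rw [hz1]; exact one_mem _
      · exact hneg z k
    refine le_antisymm ?_ hle
    have hq : 3 ≤ Fintype.card F := by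
      classical
      have h : ({0, 1, 2} : Finset F).card = 3 :=
        Finset.card_eq_three.2 ⟨0, 1, 2, zero_ne_one, h2.symm,
          fun h => one_ne_zero (show (1 : F) = 0 by linear_combination -h), rfl⟩
      exact h ▸ Finset.card_le_univ _
    haveI : IsSimpleGroup (Cfsg.PSp 2 F) := Cfsg.Agent.S0270.result 2 le_rfl fun _ => hq
    rcases (Subgroup.Normal.map (inferInstance : ψ.ker.Normal) (QuotientGroup.mk' (Subgroup.center Sp))
      (QuotientGroup.mk'_surjective _)).eq_bot_or_eq_top with h | h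
    · rwa [Subgroup.map_eq_bot_iff, QuotientGroup.ker_mk'] at h
    · exfalso
      obtain ⟨z, hz, e⟩ : QuotientGroup.mk' (Subgroup.center Sp) (siegel (1, 0, 0)) ∈
          ψ.ker.map (QuotientGroup.mk' (Subgroup.center Sp)) := h ▸ mem_top _
      have h1 : ψ (siegel (1, 0, 0)) = 1 := by
        have hd : z⁻¹ * siegel (1, 0, 0) ∈ ψ.ker := hle (QuotientGroup.eq.mp e)
        have := mul_mem hz hd
        rwa [mul_inv_cancel_left, MonoidHom.mem_ker] at this
      rw [show ψ (siegel (1, 0, 0)) = Φ.mM (1, 0, 0) from hC _ _, ← Φ.mM_zero] at h1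
      exact one_ne_zero (congrArg Prod.fst (Φ.mM_inj h1))
  exact ⟨ψ, hC, hCs, hr, hwr, hker,
    ⟨(QuotientGroup.quotientKerEquivRange ψ).symm.trans (QuotientGroup.quotientMulEquivOfEq hker)⟩⟩

end CfsgLib.PSpFourCentral
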