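import Cfsg.Agent.PSpFourNormM.PSpModel
import Cfsg.Agent.PSpFourNormM.Frame
import Cfsg.Agent.SpPres.Amalgam

/-!
The members of the amalgam of `Sp₄` in the parameters of the centraliser of a transvection.
-/

set_option autoImplicit false
set_option linter.unusedSectionVars false
set_option linter.style.haveILetI false
set_option linter.unusedSimpArgs false

open Matrix

namespace CfsgLib.PSpFourCentral

open CfsgLib.PSpFourThree CfsgLib.PSpFourNormM

variable {F : Type*} [Field F]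

local notation "Sp" => Matrix.symplecticGroup (Fin 2) F

theorem Wm_one : Wm (0 : F × F × F) (1 : Matrix.SpecialLinearGroup (Fin 2) F) = 1 :=
  Subtype.ext (by show W _ _ _ _ _ _ _ = 1; simp [W_one])

/-- The stabiliser of the first vector, as a parametrised subgroup. -/
def CW (F : Type*) [Field F] : Subgroup (Matrix.symplecticGroup (Fin 2) F) where
  carrier := {g | ∃ v A, Wm v A = g}
  one_mem' := ⟨0, 1, Wm_one⟩
  mul_mem' := by
    rintro _ _ ⟨v, A, rfl⟩ ⟨v', A', rfl⟩
    exact ⟨_, _, (Wm_mul v v' A A').symm⟩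
  inv_mem' := by
    rintro _ ⟨v, A, rfl⟩
    refine ⟨(-((A⁻¹).1 0 0 * v.1 + (A⁻¹).1 0 1 * v.2.1), -((A⁻¹).1 1 0 * v.1 + (A⁻¹).1 1 1 * v.2.1),
      -v.2.2), A⁻¹, (inv_eq_of_mul_eq_one_right ?_).symm⟩
    rw [Wm_mul, mul_inv_cancel, ← Wm_one]
    congr 1
    have hd := A.2
    rw [Matrix.det_fin_two] at hd
    obtain ⟨p, q, c⟩ := v
    simp [vmul, Matrix.SpecialLinearGroup.coe_inv, Matrix.adjugate_fin_two, Prod.ext_iff]
    refine ⟨by linear_combination (-p) * hd, by linear_combination (-q) * hd, ?_⟩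
    linear_combination (0 : F) * hd

theorem Wm_mem (v : F × F × F) (A : Matrix.SpecialLinearGroup (Fin 2) F) : Wm v A ∈ CW F :=
  ⟨v, A, rfl⟩

/-- The second plane. -/
def pl1 (F : Type*) [Field F] :
    Matrix.SpecialLinearGroup (Fin 2) F →* Matrix.symplecticGroup (Fin 2) F where
  toFun A := Wm 0 A
  map_one' := Wm_one
  map_mul' A B := by rw [Wm_mul]; congr 1; simp [vmul, Prod.ext_iff]

/-- The exchange of the two planes. -/
def sSwap (F : Type*) [Field F] : Matrix.symplecticGroup (Fin 2) F :=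
  ⟨Matrix.fromBlocks !![0, 1; -1, 0] 0 0 !![0, 1; -1, 0], by
    rw [SymplecticGroup.mem_iff]
    ext i j
    rcases i with i | i <;> rcases j with j | j <;> fin_cases i <;> fin_cases j <;>
      simp [Matrix.J, Matrix.fromBlocks, Matrix.mul_apply, Fintype.sum_sum_type, Fin.sum_univ_two]⟩

/-- The first plane. -/
def pl0 (F : Type*) [Field F] :
    Matrix.SpecialLinearGroup (Fin 2) F →* Matrix.symplecticGroup (Fin 2) F :=
  (MulAut.conj (sSwap F)).toMonoidHom.comp (pl1 F)

theorem pl0_val (A : Matrix.SpecialLinearGroup (Fin 2) F) : (pl0 F A : Sp).1 =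
    ofRows !![A.1 0 0, 0, A.1 0 1, 0; 0, 1, 0, 0; A.1 1 0, 0, A.1 1 1, 0; 0, 0, 0, 1] := by
  have h : (pl0 F A : Sp) = sSwap F * Wm 0 A * (sSwap F)⁻¹ := rfl
  have h2 : ofRows !![A.1 0 0, 0, A.1 0 1, 0; 0, 1, 0, 0; A.1 1 0, 0, A.1 1 1, 0; 0, 0, 0, 1] * (sSwap F).1 =
      (sSwap F).1 * (Wm 0 A : Sp).1 := by
    ext i j
    rcases i with i | i <;> rcases j with j | j <;> fin_cases i <;> fin_cases j <;>
      simp [sSwap, Wm, W, ofRows, ix, Matrix.fromBlocks, Matrix.mul_apply, Fintype.sum_sum_type,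
        Fin.sum_univ_two]
  rw [h]
  show (sSwap F).1 * (Wm 0 A : Sp).1 * ((sSwap F)⁻¹ : Sp).1 = _
  rw [← h2, Matrix.mul_assoc,
    show (sSwap F).1 * ((sSwap F)⁻¹ : Sp).1 = 1 from congrArg Subtype.val (mul_inv_cancel (sSwap F)),
    Matrix.mul_one]

theorem planes_commute (A B : Matrix.SpecialLinearGroup (Fin 2) F) : Commute (pl0 F A) (pl1 F B) := by
  refine Subtype.ext ?_
  show (pl0 F A : Sp).1 * (Wm 0 B : Sp).1 = (Wm 0 B : Sp).1 * (pl0 F A : Sp).1
  rw [pl0_val]
  ext i j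
  rcases i with i | i <;> rcases j with j | j <;> fin_cases i <;> fin_cases j <;>
    simp [Wm, W, ofRows, ix, Matrix.mul_apply, Fintype.sum_sum_type, Fin.sum_univ_two]

/-- The two planes. -/
def pr (F : Type*) [Field F] : Matrix.SpecialLinearGroup (Fin 2) F × Matrix.SpecialLinearGroup (Fin 2) F →*
    Matrix.symplecticGroup (Fin 2) F :=
  (pl0 F).noncommCoprod (pl1 F) planes_commute

theorem pr_injective : Function.Injective (pr F) := by
  rintro ⟨A, B⟩ ⟨A', B'⟩ h
  have h1 : (pl0 F A : Sp).1 * (Wm 0 B : Sp).1 = (pl0 F A' : Sp).1 * (Wm 0 B' : Sp).1 :=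
    congrArg Subtype.val h
  rw [pl0_val, pl0_val] at h1
  have g := fun i j => congrFun (congrFun h1 i) j
  refine Prod.ext (Subtype.ext ?_) (Subtype.ext ?_) <;> ext i j <;> fin_cases i <;> fin_cases j
  · simpa [Wm, W, ofRows, ix, Matrix.mul_apply, Fintype.sum_sum_type, Fin.sum_univ_two] using g (.inl 0) (.inl 0)
  · simpa [Wm, W, ofRows, ix, Matrix.mul_apply, Fintype.sum_sum_type, Fin.sum_univ_two] using g (.inl 0) (.inr 0)
  · simpa [Wm, W, ofRows, ix, Matrix.mul_apply, Fintype.sum_sum_type, Fin.sum_univ_two] using g (.inr 0) (.inl 0)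
  · simpa [Wm, W, ofRows, ix, Matrix.mul_apply, Fintype.sum_sum_type, Fin.sum_univ_two] using g (.inr 0) (.inr 0)
  · simpa [Wm, W, ofRows, ix, Matrix.mul_apply, Fintype.sum_sum_type, Fin.sum_univ_two] using g (.inl 1) (.inl 1)
  · simpa [Wm, W, ofRows, ix, Matrix.mul_apply, Fintype.sum_sum_type, Fin.sum_univ_two] using g (.inl 1) (.inr 1)
  · simpa [Wm, W, ofRows, ix, Matrix.mul_apply, Fintype.sum_sum_type, Fin.sum_univ_two] using g (.inr 1) (.inl 1)
  · simpa [Wm, W, ofRows, ix, Matrix.mul_apply, Fintype.sum_sum_type, Fin.sum_univ_two] using g (.inr 1) (.inr 1)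

/-- The Siegel subgroup. -/
def siegel (u : V F) : Sp := Wm (u.2.1, 0, u.1) (uS u.2.2)

theorem siegel_add (u u' : V F) : siegel (u + u') = siegel u * siegel u' := by
  rw [siegel, siegel, siegel, Wm_mul, ← uS_add]
  congr 1
  simp [vmul, uS_val]

/-- The Siegel subgroup as a homomorphism. -/
def siegelHom (F : Type*) [Field F] : Multiplicative (V F) →* Matrix.symplecticGroup (Fin 2) F where
  toFun u := siegel (Multiplicative.toAdd u)
  map_one' := by
    have h : (siegel (0 : V F) : Matrix.symplecticGroup (Fin 2) F) = siegel (0 : V F) * siegel (0 : V F) := by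
      rw [← siegel_add, add_zero]
    exact left_eq_mul.1 h
  map_mul' u u' := siegel_add _ _

theorem siegel_swap (u : V F) : sSwap F * siegel u * (sSwap F)⁻¹ = siegel (symHom F wM u) := by
  rw [mul_inv_eq_iff_eq_mul]
  obtain ⟨a, b, c⟩ := u
  refine Subtype.ext ?_
  show (sSwap F).1 * (siegel (a, b, c) : Sp).1 = (siegel (symHom F wM (a, b, c)) : Sp).1 * (sSwap F).1
  rw [wM_apply]
  ext i j
  rcases i with i | i <;> rcases j with j | j <;> fin_cases i <;> fin_cases j <;>
    simp [sSwap, siegel, Wm, W, ofRows, ix, uS_val, Matrix.fromBlocks, Matrix.mul_apply,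
      Fintype.sum_sum_type, Fin.sum_univ_two]

theorem siegel_mem (u : V F) : siegel u ∈ CW F := Wm_mem _ _

/-- The plane of the last vectors. -/
theorem eq_pl1_of_fix {g : Sp} (h0 : ∀ i, g.1 i (.inl 0) = if i = .inl 0 then 1 else 0)
    (h1 : ∀ i, g.1 i (.inr 0) = if i = .inr 0 then 1 else 0) : g ∈ (pl1 F).range := by
  have s1 := mem_cols g.2 (.inl 0) (.inl 1)
  have s2 := mem_cols g.2 (.inl 0) (.inr 1)
  have s3 := mem_cols g.2 (.inr 0) (.inl 1)
  have s4 := mem_cols g.2 (.inr 0) (.inr 1)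
  have s5 := mem_cols g.2 (.inl 1) (.inr 1)
  simp [Matrix.J, Matrix.fromBlocks, Fin.sum_univ_two, h0, h1] at s1 s2 s3 s4 s5
  refine ⟨⟨!![g.1 (.inl 1) (.inl 1), g.1 (.inl 1) (.inr 1); g.1 (.inr 1) (.inl 1), g.1 (.inr 1) (.inr 1)], by
    rw [Matrix.det_fin_two]
    simp
    have s5' := s5
    rw [s1, s2, s3, s4] at s5'
    linear_combination (-1 : F) * s5'⟩, ?_⟩
  refine Subtype.ext ?_
  show (Wm 0 _ : Sp).1 = g.1
  ext i j
  rcases i with i | i <;> rcases j with j | j <;> fin_cases i <;> fin_cases j <;>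
    simp [Wm, W, ofRows, ix, h0, h1, s1, s2, s3, s4]

open SpPres in
theorem mem_one_le : mem' (F := F) (n := 2) (Sum.inl 1) ≤ (pl1 F).range := by
  rw [mem', Subgroup.closure_le]
  intro g hg
  obtain ⟨he, hf⟩ := hg 0 (by decide)
  rw [αSp_apply] at he hf
  refine eq_pl1_of_fix (fun i => ?_) (fun i => ?_)
  · have := congrFun he i
    rw [eB, Matrix.mulVec_single_one, Pi.single_apply] at this
    exact this
  · have := congrFun hf i
    rw [fB, Matrix.mulVec_single_one, Pi.single_apply] at this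
    exact this

open SpPres in
theorem mem_zero_le : mem' (F := F) (n := 2) (Sum.inl 0) ≤ (pl0 F).range := by
  rw [mem', Subgroup.closure_le]
  intro g hg
  obtain ⟨he, hf⟩ := hg 1 (by decide)
  rw [αSp_apply] at he hf
  have ge : ∀ i, g.1 i (.inl 1) = if i = .inl 1 then 1 else 0 := fun i => by
    have := congrFun he i
    rw [eB, Matrix.mulVec_single_one, Pi.single_apply] at this
    exact this
  have gf : ∀ i, g.1 i (.inr 1) = if i = .inr 1 then 1 else 0 := fun i => by
    have := congrFun hf i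
    rw [fB, Matrix.mulVec_single_one, Pi.single_apply] at this
    exact this
  suffices h : (sSwap F)⁻¹ * g * sSwap F ∈ (pl1 F).range by
    obtain ⟨A, hA⟩ := h
    exact ⟨A, by
      show sSwap F * pl1 F A * (sSwap F)⁻¹ = g
      rw [hA]; group⟩
  refine eq_pl1_of_fix (fun i => ?_) (fun i => ?_)
  all_goals
    have hs : ((sSwap F)⁻¹ : Sp).1 = Matrix.fromBlocks !![0, -1; 1, 0] 0 0 !![0, -1; 1, 0] := by
      have e : (sSwap F).1 * Matrix.fromBlocks !![0, -1; 1, 0] 0 0 !![0, -1; 1, 0] = 1 := by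
        ext i j
        rcases i with i | i <;> rcases j with j | j <;> fin_cases i <;> fin_cases j <;>
          simp [sSwap, Matrix.fromBlocks, Matrix.mul_apply, Fintype.sum_sum_type, Fin.sum_univ_two]
      calc ((sSwap F)⁻¹ : Sp).1 = ((sSwap F)⁻¹ : Sp).1 *
          ((sSwap F).1 * Matrix.fromBlocks !![0, -1; 1, 0] 0 0 !![0, -1; 1, 0]) := by rw [e, Matrix.mul_one]
        _ = _ := by
          rw [← Matrix.mul_assoc, show ((sSwap F)⁻¹ : Sp).1 * (sSwap F).1 = 1 from
            congrArg Subtype.val (inv_mul_cancel (sSwap F)), Matrix.one_mul]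
    rw [show ((sSwap F)⁻¹ * g * sSwap F : Sp).1 = ((sSwap F)⁻¹ : Sp).1 * g.1 * (sSwap F).1 from rfl, hs]
    rcases i with i | i <;> fin_cases i <;>
      simp [sSwap, Matrix.fromBlocks, Matrix.mul_apply, Fintype.sum_sum_type, Fin.sum_univ_two, ge, gf]

open SpPres in
theorem mem_pair_le (i : {i : Fin 2 // (i : ℕ) + 1 < 2}) :
    mem' (F := F) (n := 2) (Sum.inr i) ≤ (siegelHom F).range := by
  rw [mem', Subgroup.closure_le]
  intro g hg
  obtain ⟨he, -⟩ := hg
  have ge : ∀ k i, g.1 i (.inl k) = if i = .inl k then 1 else 0 := fun k i => by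
    have := congrFun (he k) i
    rw [αSp_apply, eB, Matrix.mulVec_single_one, Pi.single_apply] at this
    exact this
  have s1 := mem_cols g.2 (.inl 0) (.inr 0)
  have s2 := mem_cols g.2 (.inl 0) (.inr 1)
  have s3 := mem_cols g.2 (.inl 1) (.inr 0)
  have s4 := mem_cols g.2 (.inl 1) (.inr 1)
  have s5 := mem_cols g.2 (.inr 0) (.inr 1)
  simp [Matrix.J, Matrix.fromBlocks, Fin.sum_univ_two, ge] at s1 s2 s3 s4 s5
  simp [s1, s2, s3, s4] at s5
  have hsym : g.1 (.inl 1) (.inr 0) = g.1 (.inl 0) (.inr 1) := by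
    first
      | linear_combination s5
      | linear_combination (-1 : F) * s5
  refine ⟨Multiplicative.ofAdd (g.1 (.inl 0) (.inr 0), g.1 (.inl 0) (.inr 1), g.1 (.inl 1) (.inr 1)),
    Subtype.ext ?_⟩
  show (siegel _ : Sp).1 = g.1
  ext i j
  rcases i with i | i <;> rcases j with j | j <;> fin_cases i <;> fin_cases j <;>
    simp [siegel, Wm, W, ofRows, ix, uS_val, ge, s1, s2, s3, s4, hsym]

end CfsgLib.PSpFourCentral
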